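import Cfsg.Agent.H37.RootSys.Sys
import Cfsg.Agent.H37.Tits.Ambient

/-!
Bruhat decomposition and uniqueness for a system of root subgroups: the split Tits system.
-/
set_option autoImplicit false

namespace Cfsg.Agent.H37.RootSys.Sys

open Cfsg.Lie Cfsg.Agent.H37.Weyl

variable {n : ℕ} {M : CoxeterMatrix (Fin n)} {C : Cert} {D : ChevalleyDatum}
variable {hC : Good C D M} {G F : Type*} [Group G] [Field F] (S : Sys hC G F)

theorem sigma_invol {i r : ℕ} (hi : i < n) (hr : r < D.nroots) :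
    (hC.hom (gen M i) (hC.hom (gen M i) ⟨r, hr⟩)).val = r := by
  rw [hC.hom_gen_val hi, hC.hom_gen_val hi]
  exact (hC.sigma_spec hi hr).2.2.1

/-- The cell of `w`. -/
def cell (w : M.Group) : Set G := {g | Tits.InCell S.U S.H (S.rep w) g}

theorem mem_cell {w : M.Group} {g : G} : g ∈ S.cell w ↔
    ∃ u ∈ S.U, ∃ h ∈ S.H, ∃ u' ∈ S.U, ∃ h' ∈ S.H, g = u * h * S.rep w * (u' * h') := Iff.rfl

theorem cell_left_U {w : M.Group} {g a : G} (ha : a ∈ S.U) (hg : g ∈ S.cell w) :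
    a * g ∈ S.cell w := by
  obtain ⟨u, hu, h, hh, u', hu', h', hh', rfl⟩ := hg
  exact ⟨a * u, mul_mem ha hu, h, hh, u', hu', h', hh', by group⟩

theorem cell_left_H {w : M.Group} {g a : G} (ha : a ∈ S.H) (hg : g ∈ S.cell w) :
    a * g ∈ S.cell w := by
  obtain ⟨u, hu, h, hh, u', hu', h', hh', rfl⟩ := hg
  exact ⟨a * u * a⁻¹, S.H_conj_U ha hu, a * h, mul_mem ha hh, u', hu', h', hh', by group⟩

theorem cell_right_U {w : M.Group} {g a : G} (ha : a ∈ S.U) (hg : g ∈ S.cell w) :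
    g * a ∈ S.cell w := by
  obtain ⟨u, hu, h, hh, u', hu', h', hh', rfl⟩ := hg
  exact ⟨u, hu, h, hh, u' * (h' * a * h'⁻¹), mul_mem hu' (S.H_conj_U hh' ha), h', hh', by group⟩

theorem cell_right_H {w : M.Group} {g a : G} (ha : a ∈ S.H) (hg : g ∈ S.cell w) :
    g * a ∈ S.cell w := by
  obtain ⟨u, hu, h, hh, u', hu', h', hh', rfl⟩ := hg
  exact ⟨u, hu, h, hh, u', hu', h' * a, mul_mem hh' ha, by group⟩

theorem rep_mem_cell (w : M.Group) : S.rep w ∈ S.cell w :=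
  ⟨1, one_mem _, 1, one_mem _, 1, one_mem _, 1, one_mem _, by group⟩

/-- Cells as `U H n U_w`. -/
theorem cell_nf {w : M.Group} {g : G} (hg : g ∈ S.cell w) :
    ∃ u ∈ S.U, ∃ h ∈ S.H, ∃ v ∈ S.Uw w, g = u * h * S.rep w * v := by
  obtain ⟨u, hu, h, hh, u', hu', h', hh', rfl⟩ := hg
  obtain ⟨a, ha, b, hb, e⟩ := S.U_split w (S.H_conj_U (inv_mem hh') hu')
  rw [inv_inv] at e
  obtain ⟨k, hk, ek⟩ : ∃ k, k ∈ S.H ∧ S.rep w * h' = k * S.rep w :=
    ⟨S.rep w * h' * (S.rep w)⁻¹, S.rep_conj_H w hh', by group⟩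
  refine ⟨u * ((h * k) * (S.rep w * a * (S.rep w)⁻¹) * (h * k)⁻¹),
    mul_mem hu (S.H_conj_U (mul_mem hh hk) (S.keep_conj w ha)), h * k, mul_mem hh hk, b, hb, ?_⟩
  calc u * h * S.rep w * (u' * h') = u * h * (S.rep w * h') * (h'⁻¹ * u' * h') := by group
    _ = _ := by rw [ek, e]; group

theorem ns_rep {i : Fin n} (w : M.Group) :
    ∃ h ∈ S.H, S.ns i * S.rep w = h * S.rep (M.simple i * w) := by
  obtain ⟨h, hh, e⟩ := S.rep_simple i
  obtain ⟨k, hk, e'⟩ := S.rep_mul (M.simple i) w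
  refine ⟨h⁻¹ * k, mul_mem (inv_mem hh) hk, ?_⟩
  rw [e, mul_assoc] at e'
  rw [mul_assoc, ← e', inv_mul_cancel_left]

/-- The cell axiom. -/
theorem step (i : Fin n) {u : G} (hu : u ∈ S.U) (w : M.Group) :
    S.ns i * u * S.rep w ∈ S.cell (M.simple i * w) ∨ S.ns i * u * S.rep w ∈ S.cell w := by
  have hs := hC.simple_spec i.isLt
  set α := D.simple i with hα
  set β := C.sigma i α with hβ
  -- split off the simple root
  obtain ⟨a, ha, b, hb, rfl⟩ := S.toUnip.exists_split (S.P_eq ▸ S.toUnip.closed_P)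
    {r | r ∈ posSet D ∧ r ≠ α} {α} (fun r hr => by
      by_cases h : r = α
      · exact Or.inr h
      · exact Or.inl ⟨hr, h⟩) hu
  have hb' : ∃ t, b = S.x α t := by
    clear hu
    induction hb using Subgroup.closure_induction with
    | mem g hg => obtain ⟨r, rfl, t, rfl⟩ := hg; exact ⟨t, rfl⟩
    | one => exact ⟨0, (S.x_zero' hs.2.1).symm⟩
    | mul x y _ _ hx hy =>
        obtain ⟨t, rfl⟩ := hx; obtain ⟨t', rfl⟩ := hy
        exact ⟨t + t', (S.x_add' α hs.2.1 t t').symm⟩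
    | inv x _ hx =>
        obtain ⟨t, rfl⟩ := hx
        exact ⟨-t, eq_comm.1 (eq_inv_of_mul_eq_one_left (by
          rw [← S.x_add' α hs.2.1, neg_add_cancel, S.x_zero' hs.2.1]))⟩
  obtain ⟨t, rfl⟩ := hb'
  have ha' : S.ns i * a * (S.ns i)⁻¹ ∈ S.U := conj_mem_XS (fun r hr t => by
    obtain ⟨h1, h2⟩ := mem_posSet.1 hr.1
    obtain ⟨t', e⟩ := S.n_conj i i.isLt r h1 t
    rw [e]
    exact S.x_mem_U (hC.sigma_spec i.isLt h1).1 ((hC.sigma_spec i.isLt h1).2.2.2.2 h2 hr.2) t') ha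
  have e0 : S.ns i * (a * S.x α t) * S.rep w
      = (S.ns i * a * (S.ns i)⁻¹) * (S.ns i * S.x α t * S.rep w) := by group
  rw [e0]
  suffices S.ns i * S.x α t * S.rep w ∈ S.cell (M.simple i * w) ∨
      S.ns i * S.x α t * S.rep w ∈ S.cell w by
    exact this.imp (S.cell_left_U ha') (S.cell_left_U ha')
  obtain ⟨k, hk, ek⟩ := S.ns_rep (i := i) w
  have hinv : ∀ r (hr : r < D.nroots),
      (hC.hom w (hC.hom w⁻¹ ⟨r, hr⟩)).val = r := fun r hr => by simp
  set γ := hC.hom w⁻¹ ⟨α, hs.2.1⟩ with hγ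
  obtain ⟨t1, e1⟩ := S.rep_conj w⁻¹ α hs.2.1 t
  obtain ⟨k1, hk1, e2⟩ := S.rep_mul w⁻¹ w
  rw [inv_mul_cancel, S.rep_one, mul_one] at e2
  have hrepinv : S.rep w⁻¹ = k1 * (S.rep w)⁻¹ := by rw [← e2]; group
  rw [hrepinv] at e1
  by_cases hpos : D.nroots / 2 ≤ γ.val
  · left
    have e3 : S.x α t * S.rep w = S.rep w * (k1⁻¹ * S.x γ.val t1 * k1) := by
      rw [hγ, ← e1]; group
    rw [mul_assoc, e3, ← mul_assoc, ek]
    refine S.cell_right_U ?_ (S.cell_left_H hk (S.rep_mem_cell _))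
    simpa using S.H_conj_U (inv_mem hk1) (S.x_mem_U γ.isLt hpos t1)
  obtain ⟨t2, e4⟩ := S.n_conj i i.isLt α hs.2.1 t
  rw [← hβ] at e4
  by_cases ht2 : t2 = 0
  · left
    have : S.ns i * S.x α t * S.rep w = S.ns i * S.rep w := by
      rw [ht2, S.x_zero' (hC.sigma_spec i.isLt hs.2.1).1] at e4
      rw [mul_inv_eq_one.1 e4]
    rw [this, ek]
    exact S.cell_left_H hk (S.rep_mem_cell _)
  right
  obtain ⟨c, d, h, hh, e5⟩ := S.sl2 i i.isLt t2 ht2
  rw [← hα, ← hβ] at e5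
  obtain ⟨d', e6⟩ := S.n_conj i i.isLt α hs.2.1 d
  rw [← hβ] at e6
  have hβlt : β < D.nroots := (hC.sigma_spec i.isLt hs.2.1).1
  obtain ⟨d1, e7⟩ := S.rep_conj w⁻¹ β hβlt d'
  rw [hrepinv] at e7
  have hδ : D.nroots / 2 ≤ (hC.hom w⁻¹ ⟨β, hβlt⟩).val := by
    have hneg := hC.hom_neg w⁻¹ ⟨α, hs.2.1⟩
    have hev := hC.even
    have : β = D.nroots - 1 - α := by
      by_contra hne
      have h4 := hC.sigma_spec i.isLt (show D.nroots - 1 - β < D.nroots by omega)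
      have h5 := h4.2.2.2.2 (by have := hs.2.2; omega) (fun h => hne (by omega))
      rw [(hC.sigma_spec i.isLt hβlt).2.2.2.1, (hC.sigma_spec i.isLt hs.2.1).2.2.1] at h5
      have := hs.1
      omega
    simp only [this]
    rw [hneg]
    have : γ.val < D.nroots / 2 := by omega
    rw [hγ] at this
    omega
  obtain ⟨k2, hk2, ek2⟩ : ∃ k2, k2 ∈ S.H ∧ S.ns i * S.ns i = k2 := ⟨_, S.sq i i.isLt, rfl⟩
  -- `n x n = x' n n = x c h n x d n n`
  have e8 : S.ns i * S.x α t * S.rep w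
      = S.x α c * h * (S.x β d' * (k2 * S.rep w)) := by
    calc S.ns i * S.x α t * S.rep w = S.x β t2 * S.ns i * S.rep w := by rw [← e4]; group
      _ = S.x α c * h * (S.ns i * S.x α d * S.ns i * S.rep w) := by rw [e5]; group
      _ = S.x α c * h * (S.x β d' * S.ns i * S.ns i * S.rep w) := by rw [← e6]; group
      _ = _ := by rw [← ek2]; group
  rw [e8, mul_assoc]
  refine S.cell_left_U (S.x_mem_U hs.2.1 hs.1 c) (S.cell_left_H hh ?_)
  obtain ⟨d2, e9⟩ := S.h_conj k2⁻¹ (inv_mem hk2) β hβlt d'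
  obtain ⟨d3, e10⟩ := S.rep_conj w⁻¹ β hβlt d2
  rw [hrepinv] at e10
  have e11 : S.x β d' * (k2 * S.rep w)
      = k2 * S.rep w * (k1⁻¹ * S.x (hC.hom w⁻¹ ⟨β, hβlt⟩).val d3 * k1) := by
    rw [← e10, ← e9]; group
  rw [e11]
  refine S.cell_right_U ?_ (S.cell_left_H hk2 (S.rep_mem_cell _))
  simpa using S.H_conj_U (inv_mem hk1) (S.x_mem_U (Fin.isLt _) hδ d3)

/-- Every element lies in a cell. -/
theorem exists_cell (g : G) : ∃ w, g ∈ S.cell w := by
  let K : Set G := {a | ∀ w, ∀ g ∈ S.cell w, ∃ w', a * g ∈ S.cell w'}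
  have hK : ∀ a ∈ K, ∀ b ∈ K, a * b ∈ K := fun a ha b hb w g hg => by
    obtain ⟨w1, h1⟩ := hb w g hg
    obtain ⟨w2, h2⟩ := ha w1 _ h1
    exact ⟨w2, by rwa [mul_assoc]⟩
  let K' : Subgroup G :=
    { carrier := {a | a ∈ K ∧ a⁻¹ ∈ K}
      one_mem' := by
        have h1 : (1 : G) ∈ K := fun w g hg => ⟨w, by simpa using hg⟩
        exact ⟨h1, by simpa using h1⟩
      mul_mem' := fun {a b} ha hb => ⟨hK a ha.1 b hb.1, by simpa using hK _ hb.2 _ ha.2⟩
      inv_mem' := fun {a} ha => ⟨ha.2, by simpa using ha.1⟩ }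
  have hU : ∀ a ∈ S.U, a ∈ K := fun a ha w g hg => ⟨w, S.cell_left_U ha hg⟩
  have hH : ∀ a ∈ S.H, a ∈ K := fun a ha w g hg => ⟨w, S.cell_left_H ha hg⟩
  have hn : ∀ i : Fin n, S.ns i ∈ K := by
    intro i w g hg
    obtain ⟨u, hu, h, hh, u', hu', h', hh', rfl⟩ := hg
    obtain ⟨k, hk, ek⟩ : ∃ k, k ∈ S.H ∧ S.ns i * (u * h) = S.ns i * u * h ∧ k = h :=
      ⟨h, hh, by group, rfl⟩
    obtain ⟨k', hk', ek'⟩ : ∃ k', k' ∈ S.H ∧ h * S.rep w = S.rep w * k' :=
      ⟨(S.rep w)⁻¹ * h * S.rep w, by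
        have := S.rep_conj_H w⁻¹ hh
        obtain ⟨k1, hk1, e2⟩ := S.rep_mul w⁻¹ w
        rw [inv_mul_cancel, S.rep_one, mul_one] at e2
        have hrepinv : S.rep w⁻¹ = k1 * (S.rep w)⁻¹ := by rw [← e2]; group
        rw [hrepinv] at this
        have := mul_mem (mul_mem (inv_mem hk1) this) hk1
        simpa [mul_assoc] using this, by group⟩
    have e : S.ns i * (u * h * S.rep w * (u' * h'))
        = S.ns i * u * S.rep w * (k' * u' * k'⁻¹) * (k' * h') := by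
      calc S.ns i * (u * h * S.rep w * (u' * h')) = S.ns i * u * (h * S.rep w) * (u' * h') := by group
        _ = _ := by rw [ek']; group
    rw [e]
    rcases S.step i hu w with h1 | h1
    · exact ⟨_, S.cell_right_H (mul_mem hk' hh') (S.cell_right_U (S.H_conj_U hk' hu') h1)⟩
    · exact ⟨_, S.cell_right_H (mul_mem hk' hh') (S.cell_right_U (S.H_conj_U hk' hu') h1)⟩
  have htop := S.top K' (fun r hr hp t => ⟨hU _ (S.x_mem_U hr hp t), hU _ (inv_mem (S.x_mem_U hr hp t))⟩)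
    (fun a ha => ⟨hH a ha, hH _ (inv_mem ha)⟩) (fun i hi => ⟨hn ⟨i, hi⟩, by
      have h2 : (S.ns i)⁻¹ = S.ns i * (S.ns i * S.ns i)⁻¹ := by group
      rw [h2]
      exact hK _ (hn ⟨i, hi⟩) _ (hH _ (inv_mem (S.sq i hi)))⟩)
  have hg : g ∈ K' := htop ▸ Subgroup.mem_top g
  obtain ⟨w, h⟩ := hg.1 1 1 ⟨1, one_mem _, 1, one_mem _, 1, one_mem _, 1, one_mem _, by simp [S.rep_one]⟩
  exact ⟨w, by rwa [mul_one] at h⟩

theorem x_neg_eq_one {r : ℕ} (hr : r < D.nroots) (hn : r < D.nroots / 2) {t : F}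
    (h : S.x r t ∈ S.U) : S.x r t = 1 :=
  S.UHV _ h 1 (one_mem _) _ (x_mem_XS (Finset.mem_coe.2 (mem_negSet.2 ⟨hr, hn⟩)) t) (mul_one _)

theorem x_one_ne {r : ℕ} (hr : r < D.nroots) (hp : D.nroots / 2 ≤ r) : S.x r 1 ≠ 1 := fun h =>
  one_ne_zero (S.sep (S.P_eq ▸ mem_posSet.2 ⟨hr, hp⟩) 1 (h ▸ one_mem _))

theorem rep_inv (w : M.Group) : ∃ k ∈ S.H, (S.rep w)⁻¹ = k * S.rep w⁻¹ := by
  obtain ⟨k, hk, e⟩ := S.rep_mul w⁻¹ w
  rw [inv_mul_cancel, S.rep_one, mul_one] at e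
  exact ⟨k⁻¹, inv_mem hk, by rw [← e]; group⟩

theorem cell_inv {w : M.Group} {g : G} (hg : g ∈ S.cell w) : g⁻¹ ∈ S.cell w⁻¹ := by
  obtain ⟨u, hu, h, hh, u', hu', h', hh', rfl⟩ := hg
  obtain ⟨k, hk, e⟩ := S.rep_inv w
  rw [show (u * h * S.rep w * (u' * h'))⁻¹ = h'⁻¹ * (u'⁻¹ * ((S.rep w)⁻¹ * h⁻¹ * u⁻¹)) by group, e]
  exact S.cell_left_H (inv_mem hh') (S.cell_left_U (inv_mem hu') (S.cell_right_U (inv_mem hu)
    (S.cell_right_H (inv_mem hh) (S.cell_left_H hk (S.rep_mem_cell _)))))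

theorem cell_trans {a b : M.Group} {g : G} (hg : g ∈ S.cell a) (h : S.rep a ∈ S.cell b) :
    g ∈ S.cell b := by
  obtain ⟨u, hu, k, hk, u', hu', k', hk', rfl⟩ := hg
  rw [mul_assoc u k, ← mul_assoc _ u' k']
  exact S.cell_right_H hk' (S.cell_right_U hu' (by
    exact S.cell_left_U hu (S.cell_left_H hk h)))

theorem cell_symm {a b : M.Group} (h : S.rep a ∈ S.cell b) : S.rep b ∈ S.cell a := by
  obtain ⟨u, hu, k, hk, u', hu', k', hk', e⟩ := h
  have : S.rep b = k⁻¹ * (u⁻¹ * (S.rep a * k'⁻¹ * u'⁻¹)) := by rw [e]; group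
  rw [this]
  exact S.cell_left_H (inv_mem hk) (S.cell_left_U (inv_mem hu) (S.cell_right_U (inv_mem hu')
    (S.cell_right_H (inv_mem hk') (S.rep_mem_cell _))))

theorem eq_one_of_cell_one {w : M.Group} (h : S.rep w ∈ S.cell 1) : w = 1 := by
  by_contra hw
  obtain ⟨i, hi, hneg⟩ := hC.exists_descent hw
  have hs := hC.simple_spec hi
  obtain ⟨t, e⟩ := S.rep_conj w (D.simple i) hs.2.1 1
  obtain ⟨u, hu, k, hk, u', hu', k', hk', e'⟩ := h
  rw [S.rep_one, mul_one] at e'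
  have hmem : S.x (hC.hom w ⟨D.simple i, hs.2.1⟩).val t ∈ S.U := by
    rw [← e, e', show u * k * (u' * k') * S.x (D.simple i) 1 * (u * k * (u' * k'))⁻¹
      = u * (k * (u' * (k' * S.x (D.simple i) 1 * k'⁻¹) * u'⁻¹) * k⁻¹) * u⁻¹ by group]
    exact mul_mem (mul_mem hu (S.H_conj_U hk (mul_mem (mul_mem hu'
      (S.H_conj_U hk' (S.x_mem_U hs.2.1 hs.1 1))) (inv_mem hu')))) (inv_mem hu)
  rw [S.x_neg_eq_one (Fin.isLt _) hneg hmem] at e
  exact S.x_one_ne hs.2.1 hs.1 (conj_eq_one_iff.1 e)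

theorem step_right (i : Fin n) {b : M.Group} {g : G} (hg : g ∈ S.cell b) :
    g * S.ns i ∈ S.cell (b * M.simple i) ∨ g * S.ns i ∈ S.cell b := by
  have hsi : (M.simple i)⁻¹ = M.simple i :=
    inv_eq_of_mul_eq_one_right (M.toCoxeterSystem.simple_mul_simple_self i)
  have h2 : (S.ns i)⁻¹ = (S.ns i * S.ns i)⁻¹ * S.ns i := by group
  obtain ⟨u, hu, h, hh, u', hu', h', hh', e⟩ := S.cell_inv hg
  obtain ⟨k', hk', ek'⟩ : ∃ k', k' ∈ S.H ∧ h * S.rep b⁻¹ = S.rep b⁻¹ * k' :=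
    ⟨(S.rep b⁻¹)⁻¹ * h * S.rep b⁻¹, by
      obtain ⟨k1, hk1, e2⟩ := S.rep_inv b⁻¹
      rw [inv_inv] at e2
      have := mul_mem (mul_mem hk1 (S.rep_conj_H b hh)) (inv_mem hk1)
      rw [e2, show k1 * S.rep b * h * S.rep b⁻¹ = k1 * (S.rep b * h * (S.rep b)⁻¹) * k1⁻¹ from ?_]
      · exact this
      · have : S.rep b⁻¹ = ((S.rep b⁻¹)⁻¹)⁻¹ := (inv_inv _).symm
        rw [this, e2]; group, by group⟩
  have hkey : (g * S.ns i)⁻¹
      = (S.ns i * S.ns i)⁻¹ * (S.ns i * u * S.rep b⁻¹ * (k' * u' * k'⁻¹) * (k' * h')) := by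
    rw [mul_inv_rev, h2, e,
      show u * h * S.rep b⁻¹ * (u' * h') = u * (h * S.rep b⁻¹) * (u' * h') by group, ek']
    group
  have hmem : ∀ w, S.ns i * u * S.rep b⁻¹ ∈ S.cell w → g * S.ns i ∈ S.cell w⁻¹ := fun w hw => by
    rw [← inv_inv (g * S.ns i), hkey]
    exact S.cell_inv (S.cell_left_H (inv_mem (S.sq i i.isLt))
      (S.cell_right_H (mul_mem hk' hh') (S.cell_right_U (S.H_conj_U hk' hu') hw)))
  rcases S.step i hu b⁻¹ with h1 | h1
  · left; simpa [hsi] using hmem _ h1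
  · right; simpa using hmem _ h1

theorem gen_eq (i : Fin n) : gen M i = M.simple i := by simp [gen]

/-- Cells of distinct elements are disjoint. -/
theorem cell_index {a b : M.Group} (h : S.rep a ∈ S.cell b) : a = b := by
  suffices ∀ m (a b : M.Group), hC.inv a ≤ m → hC.inv a ≤ hC.inv b → S.rep a ∈ S.cell b → a = b by
    rcases le_total (hC.inv a) (hC.inv b) with hle | hle
    · exact this _ a b le_rfl hle h
    · exact (this _ b a le_rfl hle (S.cell_symm h)).symm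
  intro m
  induction m with
  | zero =>
      intro a b ha _ h
      obtain rfl : a = 1 := hC.eq_one_of_inv_eq_zero (by omega)
      exact (S.eq_one_of_cell_one (S.cell_symm h)).symm
  | succ m ih =>
      intro a b ha hab h
      by_cases ha1 : a = 1
      · subst ha1; exact (S.eq_one_of_cell_one (S.cell_symm h)).symm
      obtain ⟨i, hi, hneg⟩ := hC.exists_descent ha1
      have hinv := hC.inv_mul_gen_neg hi hneg
      have hg : gen M i = M.simple ⟨i, hi⟩ := gen_eq ⟨i, hi⟩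
      rw [hg] at hinv
      set s := M.simple ⟨i, hi⟩ with hs
      obtain ⟨k, hk, e⟩ := S.rep_mul a s
      obtain ⟨k', hk', e'⟩ := S.rep_simple ⟨i, hi⟩
      have e1 : S.rep (a * s) = k⁻¹ * (S.rep a * k' * (S.rep a)⁻¹) * (S.rep a * S.ns i) := by
        rw [← hs] at e'
        calc S.rep (a * s) = k⁻¹ * (k * S.rep (a * s)) := by group
          _ = k⁻¹ * (S.rep a * (k' * S.ns i)) := by rw [← e, e']
          _ = _ := by group
      have hk'' : k⁻¹ * (S.rep a * k' * (S.rep a)⁻¹) ∈ S.H :=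
        mul_mem (inv_mem hk) (S.rep_conj_H a hk')
      rcases S.step_right ⟨i, hi⟩ h with h1 | h1
      · have h2 : S.rep (a * s) ∈ S.cell (b * s) := e1 ▸ S.cell_left_H hk'' h1
        have : a * s = b * s := by
          rcases le_total (hC.inv (a * s)) (hC.inv (b * s)) with hle | hle
          · exact ih _ _ (by omega) hle h2
          · exact (ih _ _ (by omega) hle (S.cell_symm h2)).symm
        exact mul_right_cancel this
      · have h2 : S.rep (a * s) ∈ S.cell b := e1 ▸ S.cell_left_H hk'' h1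
        have := ih _ _ (by omega) (by omega) h2
        rw [this] at hinv
        omega

theorem cell_unique {a b : M.Group} {g : G} (ha : g ∈ S.cell a) (hb : g ∈ S.cell b) : a = b := by
  obtain ⟨u, hu, k, hk, u', hu', k', hk', e⟩ := ha
  refine S.cell_index ?_
  have : S.rep a = k⁻¹ * (u⁻¹ * (g * k'⁻¹ * u'⁻¹)) := by rw [e]; group
  rw [this]
  exact S.cell_left_H (inv_mem hk) (S.cell_left_U (inv_mem hu) (S.cell_right_U (inv_mem hu')
    (S.cell_right_H (inv_mem hk') hb)))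

theorem nf_mem_cell {w : M.Group} {u h v : G} (hu : u ∈ S.U) (hh : h ∈ S.H) (hv : v ∈ S.Uw w) :
    u * h * S.rep w * v ∈ S.cell w := by
  rw [mul_assoc u h]
  exact S.cell_right_U (S.Uw_le w hv) (S.cell_left_U hu (S.cell_left_H hh (S.rep_mem_cell w)))

/-- The Bruhat normal form. -/
noncomputable def normalForm : NormalForm G M.Group where
  U := S.U
  H := S.H
  n := S.rep
  Uw := S.Uw
  exists_eq g := by
    obtain ⟨w, hw⟩ := S.exists_cell g
    obtain ⟨u, hu, h, hh, v, hv, e⟩ := S.cell_nf hw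
    exact ⟨u, hu, h, hh, w, v, hv, e⟩
  unique := by
    intro u u' h h' v v' w w' hu hu' hh hh' hv hv' e
    obtain rfl := S.cell_unique (S.nf_mem_cell hu hh hv) (e ▸ S.nf_mem_cell hu' hh' hv')
    have hneg := S.flip_conj w (mul_mem hv (inv_mem hv'))
    have e2 : h⁻¹ * (u⁻¹ * u') * h * (h⁻¹ * h') = S.rep w * (v * v'⁻¹) * (S.rep w)⁻¹ := by
      calc h⁻¹ * (u⁻¹ * u') * h * (h⁻¹ * h')
          = h⁻¹ * u⁻¹ * (u' * h' * S.rep w * v') * v'⁻¹ * (S.rep w)⁻¹ := by group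
        _ = _ := by rw [← e]; group
    have hU : h⁻¹ * (u⁻¹ * u') * h ∈ S.U := by
      simpa using S.H_conj_U (inv_mem hh) (mul_mem (inv_mem hu) hu')
    have h1 := S.UHV _ hU _ (mul_mem (inv_mem hh) hh') _ hneg e2
    have hvv : v = v' := mul_inv_eq_one.1 (conj_eq_one_iff.1 h1)
    rw [h1] at e2
    have h3 : h⁻¹ * (u⁻¹ * u') * h = (h⁻¹ * h')⁻¹ := eq_inv_of_mul_eq_one_left e2
    have h4 := S.UH _ hU (h3 ▸ inv_mem (mul_mem (inv_mem hh) hh'))
    have hu1 : u = u' := by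
      have : u⁻¹ * u' = 1 := by
        calc u⁻¹ * u' = h * (h⁻¹ * (u⁻¹ * u') * h) * h⁻¹ := by group
          _ = 1 := by rw [h4]; group
      exact inv_mul_eq_one.1 this
    rw [h4] at h3
    refine ⟨rfl, hu1, ?_, hvv⟩
    exact inv_mul_eq_one.1 (inv_eq_one.1 h3.symm)

theorem Uw_one : S.Uw 1 = ⊥ := by
  have : flip hC (1 : M.Group) = ∅ := by
    refine Finset.eq_empty_iff_forall_notMem.2 fun r hr => ?_
    obtain ⟨h1, h2, h3⟩ := mem_flip.1 hr
    simp at h3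
    omega
  rw [Uw, this, Finset.coe_empty, XS_empty]

/-- The split Tits system. -/
noncomputable def ambient : Tits.Ambient G M.Group where
  toNormalForm := S.normalForm
  S := Set.range M.simple
  closure_S := eq_top_iff.2 fun g _ => top_of_closure
  sq_S := by rintro _ ⟨i, rfl⟩; exact M.toCoxeterSystem.simple_mul_simple_self i
  n_one := S.rep_one
  n_mul := S.rep_mul
  n_conj_H w h hh := S.rep_conj_H w hh
  H_conj_U h hh u hu := S.H_conj_U hh hu
  Uw_le := S.Uw_le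
  Uw_one := S.Uw_one
  Uw_S_ne := by
    rintro _ ⟨i, rfl⟩ h
    have hs := hC.simple_spec i.isLt
    have hm : S.x (D.simple i) 1 ∈ S.Uw (M.simple i) :=
      x_mem_XS (Finset.mem_coe.2 (mem_flip.2 ⟨hs.2.1, hs.1, by
        rw [hC.hom_simple, hC.sigmaPerm_val]; exact hs.2.2⟩)) 1
    rw [show S.normalForm.Uw (M.simple i) = S.Uw (M.simple i) from rfl] at h
    rw [h, Subgroup.mem_bot] at hm
    exact S.x_one_ne hs.2.1 hs.1 hm
  cell_step := by
    rintro _ ⟨i, rfl⟩ u hu w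
    obtain ⟨h, hh, e⟩ := S.rep_simple i
    show S.rep (M.simple i) * u * S.rep w ∈ S.cell _ ∨ _ ∈ S.cell w
    rw [show S.normalForm.n (M.simple i) = S.rep (M.simple i) from rfl,
      show S.normalForm.n w = S.rep w from rfl, e,
      show h * S.ns i * u * S.rep w = h * (S.ns i * u * S.rep w) by group]
    exact (S.step i hu w).imp (S.cell_left_H hh) (S.cell_left_H hh)

end Cfsg.Agent.H37.RootSys.Sys
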