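import Cfsg.Agent.H37.RootSys.Bruhat
import Cfsg.Agent.H37.Basic
import Cfsg.Agent.Chevalley.Group

/-!
The root-subgroup system of a tabulated Chevalley group, from the table certificates and the facts
about the diagonal subgroup.
-/
set_option autoImplicit false

namespace Cfsg.Agent.H37.RootSys

open Cfsg.Lie

variable {D : ChevalleyDatum}

/-- What is used about the diagonal subgroup. -/
structure Torus (K : Chevalley.Cert D) (F : Type*) [Field F] : Prop where
  off : ∀ g ∈ D.diagonalSubgroup F, ∀ a b : D.Idx, a ≠ b → (g : Matrix D.Idx D.Idx F) a b = 0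
  one : ∀ g ∈ D.diagonalSubgroup F, ∀ i : Fin D.rank,
    (g : Matrix D.Idx D.Idx F) (.inl i) (.inl i) = 1
  conj : ∀ g ∈ D.diagonalSubgroup F, ∀ r, r < D.nroots → ∀ t,
    ∃ t', g * K.xU F r t * g⁻¹ = K.xU F r t'

/-- Every positive root descends to a fundamental one by fundamental reflections. -/
def Climb (C : Weyl.Cert) (D : ChevalleyDatum) (n : ℕ) : Prop :=
  ∀ r, r < D.nroots → D.nroots / 2 ≤ r →
    (∃ i, i < n ∧ r = D.simple i) ∨ ∃ i, i < n ∧ C.sigma i r < r ∧ D.nroots / 2 ≤ C.sigma i r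

/-- Kernel check of `Climb`. -/
def climbB (C : Weyl.Cert) (D : ChevalleyDatum) (n : ℕ) : Bool :=
  (List.range D.nroots).all fun r => decide (r < D.nroots / 2) ||
    (List.range n).any fun i =>
      (r == D.simple i) || (decide (C.sigma i r < r) && decide (D.nroots / 2 ≤ C.sigma i r))

theorem climb_of_check {C : Weyl.Cert} {n : ℕ} (h : climbB C D n = true) : Climb C D n := by
  simp only [climbB, List.all_eq_true, List.any_eq_true, List.mem_range, Bool.or_eq_true,
    Bool.and_eq_true, decide_eq_true_eq, beq_iff_eq] at h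
  intro r hr hp
  rcases h r hr with h1 | ⟨i, hi, h1 | h1⟩
  · omega
  · exact Or.inl ⟨i, hi, h1⟩
  · exact Or.inr ⟨i, hi, h1⟩

variable {n : ℕ} {M : CoxeterMatrix (Fin n)} {C : Weyl.Cert} (hC : Weyl.Good C D M)
  (K : Chevalley.Cert D) {F : Type*} [Field F]

/-- A root is a combination with positive coefficients of two others. -/
def Combo (r s k : ℕ) : Prop :=
  k < D.nroots ∧ ∃ a b : ℕ, 0 < a ∧ 0 < b ∧
    ∀ i, i < D.rank → K.cf k i = a * K.cf r i + b * K.cf s i

include hC in
theorem sigma_eq_w {i r : ℕ} (hi : i < n) (hr : r < D.nroots) : C.sigma i r = K.w i r :=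
  (hC.sigma_spec hi hr).2.1.trans (K.w_reflect i (hC.rank_eq ▸ hi) r hr)

theorem combo_code {r s k : ℕ} (hr : r < D.nroots) (hs : s < D.nroots) (h : Combo K r s k) :
    ∃ a b : ℤ, 1 ≤ a ∧ 1 ≤ b ∧ K.code k = a * K.code r + b * K.code s := by
  obtain ⟨hk, a, b, ha, hb, e⟩ := h
  exact ⟨a, b, by omega, by omega, K.code_lin hk hr hs e⟩

theorem combo_w {i r s k : ℕ} (hi : i < D.rank) (hr : r < D.nroots) (hs : s < D.nroots)
    (h : Combo K r s k) : Combo K (K.w i r) (K.w i s) (K.w i k) := by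
  obtain ⟨hk, a, b, ha, hb, e⟩ := h
  refine ⟨(K.w_lt i hi k hk).1, a, b, ha, hb, fun j hj => ?_⟩
  rw [K.cf_w i hi k hk j hj, K.cf_w i hi r hr j hj, K.cf_w i hi s hs j hj, e j hj]
  by_cases hji : j = i
  · have hl : D.cartan i k = a * D.cartan i r + b * D.cartan i s := by
      rw [K.cartan_lin i hi k hk, K.cartan_lin i hi r hr, K.cartan_lin i hi s hs,
        ← List.sum_map_mul_left, ← List.sum_map_mul_left, ← List.sum_map_add]
      refine congrArg List.sum (List.map_congr_left fun m hm => ?_)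
      rw [e m (List.mem_range.1 hm)]
      ring
    simp only [if_pos hji, hl]
    ring
  · simp only [if_neg hji]
    ring

variable (F) in
/-- A root element of the group. -/
def xG (r : ℕ) (t : F) : ↥(D.group F) := ⟨K.xU F r t, K.xU_mem_group F r t⟩

@[simp] theorem coe_xG (r : ℕ) (t : F) : (xG K F r t : GL D.Idx F) = K.xU F r t := rfl

theorem coe_mem_of_XS {S : Set ℕ} {Q : Subgroup (GL D.Idx F)}
    (h : ∀ r ∈ S, ∀ t, K.xU F r t ∈ Q) {g : ↥(D.group F)} (hg : g ∈ XS (xG K F) S) :
    (g : GL D.Idx F) ∈ Q :=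
  (XS_le (K := Q.comap (D.group F).subtype) fun r hr t => h r hr t) hg

theorem wU_mem_XS {S : Set ℕ} {w : List (ℕ × F)} (h : ∀ p ∈ w, p.1 ∈ S) :
    (⟨K.wU F w, K.wU_mem F fun p _ => K.xU_mem_group F p.1 p.2⟩ : ↥(D.group F))
      ∈ XS (xG K F) S := by
  have : (⟨K.wU F w, K.wU_mem F fun p _ => K.xU_mem_group F p.1 p.2⟩ : ↥(D.group F))
      = (w.map fun p => xG K F p.1 p.2).prod := by
    refine Subtype.ext ?_
    rw [Subgroup.val_list_prod, List.map_map]
    rfl
  rw [this]
  refine Subgroup.list_prod_mem _ fun g hg => ?_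
  obtain ⟨p, hp, rfl⟩ := List.mem_map.1 hg
  exact x_mem_XS (h p hp) p.2

theorem xG_comm {r s : ℕ} (hr : r < D.nroots) (hs : s < D.nroots) (h1 : r ≠ s)
    (h2 : r ≠ D.neg s) (t u : F) :
    xG K F r t * xG K F s u * (xG K F r t)⁻¹ * (xG K F s u)⁻¹ ∈
      XS (xG K F) {k | Combo K r s k} := by
  have hterms : ∀ p ∈ D.commWord F s r (-u) (-t), p.1 ∈ {k | Combo K r s k} := by
    intro p hp
    simp only [ChevalleyDatum.commWord, List.mem_map] at hp
    obtain ⟨c, hc, rfl⟩ := hp
    obtain ⟨⟨h3, h5, h6⟩, h4⟩ := K.commTerms_cf hc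
    refine ⟨h3, c.2.2.2, c.2.2.1, h6, h5, fun i hi => ?_⟩
    rw [h4 i hi]
    ring
  have he := K.xU_comm F hs hr h1 h2 (-u) (-t)
  set e : ↥(D.group F) :=
    ⟨K.wU F (D.commWord F s r (-u) (-t)), K.wU_mem F fun p _ => K.xU_mem_group F p.1 p.2⟩
  have e1 : xG K F r t * xG K F s u * (xG K F r t)⁻¹ * (xG K F s u)⁻¹ = e := by
    refine Subtype.ext ?_
    show K.xU F r t * K.xU F s u * (K.xU F r t)⁻¹ * (K.xU F s u)⁻¹
      = K.wU F (D.commWord F s r (-u) (-t))
    rw [K.xU_inv, K.xU_inv,
      show K.xU F r t * K.xU F s u = (K.xU F r (-t))⁻¹ * (K.xU F s (-u))⁻¹ by simp [K.xU_inv],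
      mul_assoc _ (K.xU F r (-t)) _, he]
    group
  rw [e1]
  exact wU_mem_XS K hterms

theorem code_pos_of_le {r : ℕ} (hr : r < D.nroots) (h : D.nroots / 2 ≤ r) : 1 ≤ K.code r := by
  have := (K.code_pos r hr).1.2 h
  omega

theorem code_neg_of_lt {r : ℕ} (hr : r < D.nroots) (h : r < D.nroots / 2) : K.code r ≤ -1 := by
  have h1 := (K.code_pos r hr).2
  have h2 : ¬ 0 < K.code r := fun h' => by have := (K.code_pos r hr).1.1 h'; omega
  omega

theorem combo_pos {r s k : ℕ} (hr : r < D.nroots) (hr' : D.nroots / 2 ≤ r) (hs : s < D.nroots)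
    (hs' : D.nroots / 2 ≤ s) (h : Combo K r s k) :
    (k < D.nroots ∧ D.nroots / 2 ≤ k) ∧ r < k ∧ s < k := by
  obtain ⟨a, b, ha, hb, e⟩ := combo_code K hr hs h
  have h1 := code_pos_of_le K hr hr'
  have h2 := code_pos_of_le K hs hs'
  have h3 : K.code r < K.code k := by nlinarith
  have h4 : K.code s < K.code k := by nlinarith
  have hlt : ∀ x, x < D.nroots → K.code x < K.code k → x < k := fun x hx hc => by
    rcases Nat.lt_or_ge x k with h' | h'
    · exact h'
    · exfalso
      rcases Nat.eq_or_lt_of_le h' with h'' | h''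
      · rw [h''] at hc; exact lt_irrefl _ hc
      · have := K.code_mono h'' hx; omega
  refine ⟨⟨h.1, ?_⟩, hlt r hr h3, hlt s hs h4⟩
  have := hlt r hr h3
  omega

theorem combo_neg {r s k : ℕ} (hr : r < D.nroots) (hr' : r < D.nroots / 2) (hs : s < D.nroots)
    (hs' : s < D.nroots / 2) (h : Combo K r s k) : k < D.nroots / 2 := by
  obtain ⟨a, b, ha, hb, e⟩ := combo_code K hr hs h
  have h1 := code_neg_of_lt K hr hr'
  have h2 := code_neg_of_lt K hs hs'
  by_contra hk
  have h3 := code_pos_of_le K h.1 (by omega)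
  nlinarith

include K in
theorem cor_zero {r : ℕ} (hr : r < D.nroots) {t : F}
    (h : ∀ i, i < D.rank → (Chevalley.cor D r i : F) * t = 0) : t = 0 := by
  have key : ∀ L : List ℤ, (∀ c ∈ L, (c : F) * t = 0) →
      ((L.foldr (fun c g => Int.gcd c g) 0 : ℕ) : F) * t = 0 := by
    intro L hL
    induction L with
    | nil => simp
    | cons c L ih =>
      have ih' := ih fun d hd => hL d (by simp [hd])
      have hb := congrArg (fun z : ℤ => (z : F) * t)
        (Int.gcd_eq_gcd_ab c (L.foldr (fun c g => Int.gcd c g) 0 : ℕ))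
      push_cast at hb
      simp only [List.foldr_cons]
      rw [hb]
      linear_combination (Int.gcdA c _ : F) * hL c (by simp) + (Int.gcdB c _ : F) * ih'
  simpa [K.cor_gcd r hr] using key ((List.range D.rank).map (Chevalley.cor D r)) (fun c hc => by
    simp only [List.mem_map, List.mem_range] at hc
    obtain ⟨i, hi, rfl⟩ := hc
    exact h i hi)

include K in
open Chevalley in
theorem x_inl_inr {r : ℕ} (hr : r < D.nroots) (t : F) (i : Fin D.rank) (s : Fin D.nroots) :
    D.x F r t (.inl i) (.inr s) = if s.val = D.neg r then (cor D r i : F) * t else 0 := by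
  rw [K.x_eq hr]
  simp only [xR, Matrix.of_apply, Finset.sum_range_succ, Finset.sum_range_zero, aMat_lr, entIS]
  by_cases hs : s.val = D.neg r <;> simp [hs]

/-- Upper unitriangular matrices with no coroot part below `D.neg k`. -/
def fixSub (hO : Ordered D) (k : ℕ) : Subgroup (GL D.Idx F) where
  carrier := {g | g ∈ posUni D F ∧ ∀ (i : Fin D.rank) (u : Fin D.nroots),
    u.val < D.nroots / 2 → D.neg k ≤ u.val → (g : Matrix D.Idx D.Idx F) (.inl i) (.inr u) = 0}
  one_mem' := ⟨one_mem _, fun i u _ _ => by simp⟩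
  mul_mem' := by
    rintro g h ⟨hg, hg'⟩ ⟨hh, hh'⟩
    refine ⟨mul_mem hg hh, fun i u hu hku => ?_⟩
    rw [Units.val_mul, Matrix.mul_apply]
    refine Finset.sum_eq_zero fun m _ => ?_
    have hgr : Raises (rk D) 1 ((g : Matrix D.Idx D.Idx F) - 1) := hg
    have hhr : Raises (rk D) 1 ((h : Matrix D.Idx D.Idx F) - 1) := hh
    rcases m with j | v
    · rcases eq_or_ne j i with rfl | hji
      · rw [hh' j u hu hku, mul_zero]
      · by_cases h0 : (g : Matrix D.Idx D.Idx F) (.inl i) (.inl j) = 0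
        · rw [h0, zero_mul]
        · have := hgr (.inl i) (.inl j) (by simp [Ne.symm hji, h0])
          simp [rk] at this
    · by_cases hv : v.val < D.nroots / 2 ∧ D.neg k ≤ v.val
      · rw [hg' i v hv.1 hv.2, zero_mul]
      · by_cases h0 : (g : Matrix D.Idx D.Idx F) (.inl i) (.inr v) = 0
        · rw [h0, zero_mul]
        · have hvh := hgr (.inl i) (.inr v) (by simp [h0])
          by_cases h1 : (h : Matrix D.Idx D.Idx F) (.inr v) (.inr u) = 0
          · rw [h1, mul_zero]
          · exfalso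
            simp only [rk] at hvh
            split at hvh
            · have hne : v ≠ u := fun e => hv ⟨by omega, e ▸ hku⟩
              have := hhr (.inr v) (.inr u) (by simp [Matrix.one_apply_ne (show (Sum.inr v : D.Idx) ≠ Sum.inr u by simp [hne]), h1])
              simp only [rk, if_pos hu] at this
              split at this
              · exact hv ⟨by omega, by omega⟩
              · omega
            · omega
  inv_mem' := by
    rintro g ⟨hg, hg'⟩
    refine ⟨inv_mem hg, fun i u hu hku => ?_⟩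
    have hh : g⁻¹ ∈ posUni D F := inv_mem hg
    have hgr : Raises (rk D) 1 ((g : Matrix D.Idx D.Idx F) - 1) := hg
    have hhr : Raises (rk D) 1 (((g⁻¹ : GL D.Idx F) : Matrix D.Idx D.Idx F) - 1) := hh
    have h1 : ((g : Matrix D.Idx D.Idx F) * ((g⁻¹ : GL D.Idx F) : Matrix D.Idx D.Idx F))
        (.inl i) (.inr u) = 0 := by
      rw [← Units.val_mul, mul_inv_cancel]
      simp
    rw [Matrix.mul_apply, Finset.sum_eq_single (Sum.inl i)] at h1
    · have hone : (g : Matrix D.Idx D.Idx F) (.inl i) (.inl i) = 1 := by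
        by_contra hne
        have := hgr (.inl i) (.inl i) (by simp [sub_ne_zero, hne])
        omega
      rwa [hone, one_mul] at h1
    · intro m _ hm
      rcases m with j | v
      · by_cases h0 : (g : Matrix D.Idx D.Idx F) (.inl i) (.inl j) = 0
        · rw [h0, zero_mul]
        · have hji : i ≠ j := fun e => hm (e ▸ rfl)
          have := hgr (.inl i) (.inl j) (by simp [hji, h0])
          simp [rk] at this
      · by_cases hv : v.val < D.nroots / 2 ∧ D.neg k ≤ v.val
        · rw [hg' i v hv.1 hv.2, zero_mul]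
        · by_cases h0 : (g : Matrix D.Idx D.Idx F) (.inl i) (.inr v) = 0
          · rw [h0, zero_mul]
          · have hvh := hgr (.inl i) (.inr v) (by simp [h0])
            by_cases h2 : ((g⁻¹ : GL D.Idx F) : Matrix D.Idx D.Idx F) (.inr v) (.inr u) = 0
            · rw [h2, mul_zero]
            · exfalso
              simp only [rk] at hvh
              split at hvh
              · have hne : v ≠ u := fun e => hv ⟨by omega, e ▸ hku⟩
                have := hhr (.inr v) (.inr u) (by rw [Matrix.sub_apply, Matrix.one_apply_ne (show (Sum.inr v : D.Idx) ≠ Sum.inr u by simp [hne]), sub_zero]; exact h2)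
                simp only [rk, if_pos hu] at this
                split at this
                · exact hv ⟨by omega, by omega⟩
                · omega
              · omega
    · simp

theorem xG_sep (hO : Ordered D) {k : ℕ} (hk : k < D.nroots) (hp : D.nroots / 2 ≤ k) {t : F}
    (h : xG K F k t ∈ XS (xG K F) {r | r ∈ posSet D ∧ k < r}) : t = 0 := by
  have hmem : (xG K F k t : GL D.Idx F) ∈ fixSub hO k := by
    refine coe_mem_of_XS K (fun r hr u => ?_) h
    obtain ⟨h1, h2⟩ := mem_posSet.1 hr.1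
    refine ⟨?_, fun i v hv hkv => ?_⟩
    · show Raises (rk D) 1 _
      rw [Chevalley.Cert.coe_xU]
      exact x_raises_pos hO ((hO.isPosRoot_iff r).2 ⟨h1, h2⟩) u
    · rw [Chevalley.Cert.coe_xU, x_inl_inr K h1, if_neg]
      rw [K.neg_eq r h1]
      rw [K.neg_eq k hk] at hkv
      have := hr.2
      omega
  refine cor_zero K hk fun i hi => ?_
  have hev := hO.even
  have := hmem.2 ⟨i, hi⟩ ⟨D.neg k, K.neg_lt hk⟩ (by simp only [K.neg_eq k hk]; omega) le_rfl
  rwa [coe_xG, Chevalley.Cert.coe_xU, x_inl_inr K hk, if_pos rfl] at this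

variable (F) in
/-- The representative of a fundamental reflection. -/
def nG (i : ℕ) : ↥(D.group F) :=
  ⟨K.nS F i, K.wU_mem F fun p _ => K.xU_mem_group F p.1 p.2⟩

@[simp] theorem coe_nG (i : ℕ) : (nG K F i : GL D.Idx F) = K.nS F i := rfl

theorem hU_mem {r : ℕ} (hr : r < D.nroots) {t : F} (ht : t ≠ 0) :
    K.hU F r t ∈ D.diagonalSubgroup F :=
  Subgroup.subset_closure ⟨r, t, hr, ht, K.coe_hU F r t⟩

theorem nS_sq {i : ℕ} :
    K.nS F i * K.nS F i = (K.hU F (D.simple i) (-1))⁻¹ := by
  rw [K.hU_eq, mul_inv_rev, K.nU_inv, neg_neg]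
  rfl

theorem nS_conj_diag {i : ℕ} (hi : i < D.rank) {g : GL D.Idx F} (hg : g ∈ D.diagonalSubgroup F) :
    K.nS F i * g * (K.nS F i)⁻¹ ∈ D.diagonalSubgroup F := by
  have hle : D.diagonalSubgroup F ≤
      (D.diagonalSubgroup F).comap (MulAut.conj (K.nS F i)).toMonoidHom := by
    refine (Subgroup.closure_le _).2 ?_
    rintro h ⟨r, t, hr, ht, hh⟩
    obtain rfl : h = K.hU F r t := Units.ext (hh.trans (K.coe_hU F r t).symm)
    show K.nS F i * K.hU F r t * (K.nS F i)⁻¹ ∈ D.diagonalSubgroup F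
    have hw := (K.w_lt i hi r hr).1
    have e : K.nS F i * K.hU F r t * (K.nS F i)⁻¹
        = K.nU F (K.w i r) ((K.sg i r : F) * t) * K.nU F (K.w i r) ((K.sg i r : F) * -1) := by
      rw [← K.nS_conj_nU F hi hr, ← K.nS_conj_nU F hi hr, K.hU_eq]
      group
    rw [e]
    rcases K.sg_pm i r with h1 | h1
    · rw [h1]; simpa [← K.hU_eq] using hU_mem K hw ht
    · rw [h1]
      have e2 : K.nU F (K.w i r) ((-1 : F) * t) * K.nU F (K.w i r) ((-1 : F) * -1)
          = K.hU F (K.w i r) (-t) * (K.hU F (K.w i r) (-1))⁻¹ := by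
        rw [K.hU_eq, K.hU_eq, mul_inv_rev, K.nU_inv, neg_neg]
        simp [mul_assoc]
        rw [← mul_assoc (K.nU F (K.w i r) (-1)), ← K.nU_inv F _ (1 : F), inv_mul_cancel, one_mul]
      push_cast
      rw [e2]
      exact mul_mem (hU_mem K hw (neg_ne_zero.2 ht)) (inv_mem (hU_mem K hw (by simp)))
  simpa using hle hg

theorem nU_eq_hU_nS {i : ℕ} (c : F) :
    K.nU F (D.simple i) c = K.hU F (D.simple i) c * K.nS F i := by
  rw [K.hU_eq, mul_assoc, show K.nS F i = K.nU F (D.simple i) 1 from rfl,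
    ← K.nU_inv F _ (1 : F), inv_mul_cancel, mul_one]

theorem sl2 {i : ℕ} (hi : i < D.rank) {t : F} (ht : t ≠ 0) :
    K.xU F (D.neg (D.simple i)) t = K.xU F (D.simple i) t⁻¹ * K.hU F (D.simple i) (-t⁻¹) *
      K.nS F i * K.xU F (D.simple i) t⁻¹ := by
  have e := nU_eq_hU_nS K (i := i) (-t⁻¹)
  rw [K.nU_eq, show -(-t⁻¹)⁻¹ = t by simp [inv_neg]] at e
  rw [mul_assoc (K.xU F (D.simple i) t⁻¹) (K.hU F _ _) (K.nS F i), ← e]
  simp only [← mul_assoc, K.xU_add, add_neg_cancel, K.xU_zero, one_mul]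
  rw [mul_assoc, K.xU_add, neg_add_cancel, K.xU_zero, mul_one]

theorem coe_mem_posUni (hO : Ordered D) {u : ↥(D.group F)}
    (hu : u ∈ XS (xG K F) (↑(posSet D) : Set ℕ)) : (u : GL D.Idx F) ∈ posUni D F :=
  coe_mem_of_XS K (fun r hr t => by
    show Raises (rk D) 1 _
    rw [Chevalley.Cert.coe_xU]
    exact x_raises_pos hO ((hO.isPosRoot_iff r).2 (mem_posSet.1 hr)) t) hu

theorem coe_mem_negUni (hO : Ordered D) {u : ↥(D.group F)}
    (hu : u ∈ XS (xG K F) (↑(negSet D) : Set ℕ)) : (u : GL D.Idx F) ∈ negUni D F :=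
  coe_mem_of_XS K (fun r hr t => by
    show Raises (rkRev D) 1 _
    rw [Chevalley.Cert.coe_xU]
    exact x_raises_neg hO ((hO.isNegRoot_iff r).2 (mem_negSet.1 hr).2) t) hu

theorem raises_diag {rk' : D.Idx → ℕ} {g : GL D.Idx F}
    (hg : Raises rk' 1 ((g : Matrix D.Idx D.Idx F) - 1)) (a : D.Idx) :
    (g : Matrix D.Idx D.Idx F) a a = 1 := by
  by_contra hne
  have := hg a a (by simp [sub_ne_zero, hne])
  omega

theorem flatten_prod {P : Type*} [Monoid P] (f : ℕ → P) (a b m : ℕ) :
    ((List.replicate m [a, b]).flatten.map f).prod = (f a * f b) ^ m := by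
  induction m with
  | zero => simp
  | succ m ih => simp [List.replicate_succ, pow_succ', ih, mul_assoc]

variable (T : Torus K F) (hclimb : Climb C D n) (hO : Ordered D)
  (hrel : ∀ i j : Fin n, (K.nS F i * K.nS F j) ^ M i j ∈ D.diagonalSubgroup F)

include hC K in
theorem neg_simple_eq {i : ℕ} (hi : i < n) :
    C.sigma i (D.simple i) = D.neg (D.simple i) := by
  have hs := hC.simple_spec hi
  rw [K.neg_eq _ hs.2.1]
  by_contra hne
  have hev := hC.even
  have hlt := (hC.sigma_spec hi hs.2.1).1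
  have h4 := hC.sigma_spec hi (show D.nroots - 1 - C.sigma i (D.simple i) < D.nroots by omega)
  have h5 := h4.2.2.2.2 (by omega) (fun h => hne (by omega))
  rw [(hC.sigma_spec hi hlt).2.2.2.1, (hC.sigma_spec hi hs.2.1).2.2.1] at h5
  omega

include hC hclimb hO in
theorem top_eq (Q : Subgroup ↥(D.group F))
    (hX : ∀ r, r < D.nroots → D.nroots / 2 ≤ r → ∀ t, xG K F r t ∈ Q)
    (hN : ∀ i, i < n → nG K F i ∈ Q) : Q = ⊤ := by
  have hneg : ∀ r, r < D.nroots → D.nroots / 2 ≤ r → ∀ t, xG K F (D.neg r) t ∈ Q := by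
    intro r
    induction r using Nat.strong_induction_on with
    | _ r ih =>
      intro hr hp t
      have key : ∀ i, i < n → ∀ s, s < D.nroots → (∀ u, xG K F s u ∈ Q) →
          ∀ u, xG K F (K.w i s) u ∈ Q := by
        intro i hi s hs h u
        have hi' : i < D.rank := hC.rank_eq.symm ▸ hi
        have e : xG K F (K.w i s) u
            = nG K F i * xG K F s ((K.sg i s : F) * u) * (nG K F i)⁻¹ := by
          refine Subtype.ext ?_
          show K.xU F (K.w i s) u = K.nS F i * K.xU F s _ * (K.nS F i)⁻¹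
          rw [K.nS_conj_xU F hi' hs]
          rcases K.sg_pm i s with h1 | h1 <;> simp [h1]
        rw [e]
        exact mul_mem (mul_mem (hN i hi) (h _)) (inv_mem (hN i hi))
      rcases hclimb r hr hp with ⟨i, hi, rfl⟩ | ⟨i, hi, h1, h2⟩
      · rw [← neg_simple_eq hC K hi, sigma_eq_w hC K hi hr]
        exact key i hi _ hr (hX _ hr hp) t
      · have hi' : i < D.rank := hC.rank_eq.symm ▸ hi
        have hs : C.sigma i r < D.nroots := (hC.sigma_spec hi hr).1
        have e : K.w i (D.neg (C.sigma i r)) = D.neg r := by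
          rw [sigma_eq_w hC K hi hr, K.w_neg hi' (K.w_lt i hi' r hr).1,
            (K.w_lt i hi' r hr).2]
        rw [← e]
        exact key i hi _ (K.neg_lt hs) (ih _ h1 hs h2) t
  rw [eq_top_iff]
  intro g _
  have hall : D.group F ≤ Q.map (D.group F).subtype := by
    conv_lhs => rw [K.group_eq]
    refine (Subgroup.closure_le _).2 ?_
    rintro _ ⟨r, t, hr, rfl⟩
    refine ⟨xG K F r t, ?_, rfl⟩
    rcases Nat.lt_or_ge r (D.nroots / 2) with h | h
    · have hev := hO.even
      have := hneg (D.neg r) (K.neg_lt hr) (by rw [K.neg_eq r hr]; omega) t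
      rwa [K.neg_neg hr] at this
    · exact hX r hr h t
  obtain ⟨g', hg', e⟩ := hall g.2
  rwa [← Subtype.ext (a1 := g') (a2 := g) e]

include T hclimb hO hrel in
/-- The root-subgroup system of the Chevalley group. -/
def sys : Sys hC ↥(D.group F) F where
  P := posSet D
  x := xG K F
  T := Combo K
  x_add r _ a b := Subtype.ext (K.xU_add F r a b).symm
  T_pos := by
    intro r s k hr hs h
    rw [mem_posSet] at hr hs ⊢
    exact combo_pos K hr.1 hr.2 hs.1 hs.2 h
  comm := by
    intro r s hr hs hne t u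
    rw [mem_posSet] at hr hs
    refine xG_comm K hr.1 hs.1 hne ?_ t u
    rw [K.neg_eq s hs.1]
    have := hO.even
    omega
  sep := by
    intro k hk t h
    rw [mem_posSet] at hk
    exact xG_sep K hO hk.1 hk.2 h
  P_eq := rfl
  T_neg := by
    intro r s k hr hs h
    rw [mem_negSet] at hr hs ⊢
    exact ⟨h.1, combo_neg K hr.1 hr.2 hs.1 hs.2 h⟩
  T_gen := by
    intro i r s k hi hr hs h
    rw [sigma_eq_w hC K hi hr, sigma_eq_w hC K hi hs, sigma_eq_w hC K hi h.1]
    exact combo_w K (hC.rank_eq.symm ▸ hi) hr hs h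
  x_add' r _ a b := Subtype.ext (K.xU_add F r a b).symm
  H := (D.diagonalSubgroup F).subgroupOf (D.group F)
  h_conj h hh r hr t := by
    obtain ⟨t', e⟩ := T.conj _ hh r hr t
    exact ⟨t', Subtype.ext e⟩
  ns := nG K F
  n_conj_H i hi h hh := nS_conj_diag K (hC.rank_eq.symm ▸ hi) hh
  sq i hi := by
    show K.nS F i * K.nS F i ∈ D.diagonalSubgroup F
    rw [nS_sq]
    exact inv_mem (hU_mem K (hC.simple_spec hi).2.1 (by simp))
  rel i j := by
    show ((↑((nG K F i * nG K F j) ^ M i j)) : GL D.Idx F) ∈ D.diagonalSubgroup F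
    simpa using hrel i j
  n_conj i hi r hr t := by
    refine ⟨(K.sg i r : F) * t, Subtype.ext ?_⟩
    rw [sigma_eq_w hC K hi hr]
    exact K.nS_conj_xU F (hC.rank_eq.symm ▸ hi) hr t
  sl2 i hi t ht := by
    refine ⟨t⁻¹, t⁻¹, ⟨K.hU F (D.simple i) (-t⁻¹), K.wU_mem F fun p _ =>
      K.xU_mem_group F p.1 p.2⟩, hU_mem K (hC.simple_spec hi).2.1 (by simp [ht]), Subtype.ext ?_⟩
    rw [neg_simple_eq hC K hi]
    exact sl2 K (hC.rank_eq.symm ▸ hi) ht
  UH u hu hh := by
    have h1 := coe_mem_posUni K hO hu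
    refine Subtype.ext (Units.ext ?_)
    ext a b
    rw [OneMemClass.coe_one, Units.val_one]
    by_cases hab : a = b
    · subst hab; rw [Matrix.one_apply_eq, raises_diag h1]
    · rw [Matrix.one_apply_ne hab]; exact T.off _ hh a b hab
  UHV u hu h hh v hv e := by
    have h1 : Raises (rk D) 1 (((u : GL D.Idx F) : Matrix D.Idx D.Idx F) - 1) :=
      coe_mem_posUni K hO hu
    have h2 : Raises (rkRev D) 1 (((v : GL D.Idx F) : Matrix D.Idx D.Idx F) - 1) :=
      coe_mem_negUni K hO hv
    have e' : ((u : GL D.Idx F) : Matrix D.Idx D.Idx F) * ((h : GL D.Idx F) : Matrix D.Idx D.Idx F)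
        = ((v : GL D.Idx F) : Matrix D.Idx D.Idx F) := by
      rw [← Units.val_mul, ← Subgroup.coe_mul, e]
    have hh' : (h : GL D.Idx F) ∈ D.diagonalSubgroup F := hh
    refine Subtype.ext (Units.ext ?_)
    ext a b
    rw [OneMemClass.coe_one, Units.val_one]
    by_cases hab : a = b
    · subst hab; rw [Matrix.one_apply_eq, raises_diag h2]
    · rw [Matrix.one_apply_ne hab]
      by_contra hne
      have h3 := h2 a b (by simp [hab, hne])
      rw [← e', Matrix.mul_apply, Finset.sum_eq_single b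
        (fun c _ hc => by rw [T.off _ hh' c b hc, mul_zero]) (by simp)] at hne
      have h4 := h1 a b (by simp [hab, left_ne_zero_of_mul hne])
      have := rk_le (D := D) a
      have := rk_le (D := D) b
      simp only [rkRev] at h3
      omega
  top Q hX _ hN := top_eq hC K hclimb hO Q hX hN

end Cfsg.Agent.H37.RootSys
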