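import Cfsg.Agent.H37.RootSys.Unip
import Cfsg.Agent.H37.Weyl.Descent

/-!
A system of root subgroups over a finite Coxeter group acting on root indices: the representatives
`n w`, their action on the root subgroups, and the subgroups `Uw w`.
-/
set_option autoImplicit false

namespace Cfsg.Agent.H37.RootSys

open Cfsg.Lie Cfsg.Agent.H37.Weyl

variable {n : ℕ} {M : CoxeterMatrix (Fin n)} {C : Cert} {D : ChevalleyDatum}

/-- The positive root indices. -/
def posSet (D : ChevalleyDatum) : Finset ℕ := (Finset.range D.nroots).filter (D.nroots / 2 ≤ ·)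

/-- The negative root indices. -/
def negSet (D : ChevalleyDatum) : Finset ℕ := (Finset.range D.nroots).filter (· < D.nroots / 2)

theorem mem_posSet {r : ℕ} : r ∈ posSet D ↔ r < D.nroots ∧ D.nroots / 2 ≤ r := by simp [posSet]

theorem mem_negSet {r : ℕ} : r ∈ negSet D ↔ r < D.nroots ∧ r < D.nroots / 2 := by simp [negSet]

/-- Root subgroups indexed by the roots of a certified Weyl group. -/
structure Sys (hC : Good C D M) (G F : Type*) [Group G] [Field F] extends Unip G F where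
  P_eq : P = posSet D
  T_neg : ∀ {r s k}, r ∈ negSet D → s ∈ negSet D → T r s k → k ∈ negSet D
  T_gen : ∀ {i r s k}, i < n → r < D.nroots → s < D.nroots → T r s k →
    T (C.sigma i r) (C.sigma i s) (C.sigma i k)
  x_add' : ∀ r, r < D.nroots → ∀ a b, x r (a + b) = x r a * x r b
  H : Subgroup G
  h_conj : ∀ h ∈ H, ∀ r, r < D.nroots → ∀ t, ∃ t', h * x r t * h⁻¹ = x r t'
  ns : ℕ → G
  n_conj_H : ∀ i, i < n → ∀ h ∈ H, ns i * h * (ns i)⁻¹ ∈ H
  sq : ∀ i, i < n → ns i * ns i ∈ H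
  rel : ∀ i j : Fin n, (ns i * ns j) ^ M i j ∈ H
  n_conj : ∀ i, i < n → ∀ r, r < D.nroots → ∀ t, ∃ t', ns i * x r t * (ns i)⁻¹ = x (C.sigma i r) t'
  sl2 : ∀ i, i < n → ∀ t : F, t ≠ 0 → ∃ a b, ∃ h ∈ H,
    x (C.sigma i (D.simple i)) t = x (D.simple i) a * h * ns i * x (D.simple i) b
  UH : ∀ u ∈ XS x (↑(posSet D) : Set ℕ), u ∈ H → u = 1
  UHV : ∀ u ∈ XS x (↑(posSet D) : Set ℕ), ∀ h ∈ H, ∀ v ∈ XS x (↑(negSet D) : Set ℕ),
    u * h = v → v = 1
  top : ∀ K : Subgroup G, (∀ r, r < D.nroots → D.nroots / 2 ≤ r → ∀ t, x r t ∈ K) → H ≤ K →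
    (∀ i, i < n → ns i ∈ K) → K = ⊤

namespace Sys

variable {hC : Good C D M} {G F : Type*} [Group G] [Field F] (S : Sys hC G F)

theorem x_zero' {r : ℕ} (hr : r < D.nroots) : S.x r 0 = 1 := by
  have := S.x_add' r hr 0 0
  rw [add_zero] at this
  exact left_eq_mul.1 this

/-- The subgroup generated by the positive root subgroups. -/
def U : Subgroup G := XS S.x (↑(posSet D) : Set ℕ)

theorem x_mem_U {r : ℕ} (hr : r < D.nroots) (hp : D.nroots / 2 ≤ r) (t : F) : S.x r t ∈ S.U :=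
  x_mem_XS (Finset.mem_coe.2 (mem_posSet.2 ⟨hr, hp⟩)) t

theorem H_conj_U {h : G} (hh : h ∈ S.H) {u : G} (hu : u ∈ S.U) : h * u * h⁻¹ ∈ S.U :=
  conj_mem_XS (fun r hr t => by
    obtain ⟨t', e⟩ := S.h_conj h hh r (mem_posSet.1 hr).1 t
    rw [e]; exact x_mem_XS hr t') hu

theorem ns_mem_norm {i : ℕ} (hi : i < n) : S.ns i ∈ Subgroup.normalizer (S.H : Set G) := by
  rw [Subgroup.mem_normalizer_iff]
  intro h
  refine ⟨fun hh => S.n_conj_H i hi h hh, fun hh => ?_⟩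
  have h2 : S.ns i * S.ns i * h * (S.ns i * S.ns i)⁻¹ ∈ S.H := by
    have := S.n_conj_H i hi _ hh
    rwa [show S.ns i * (S.ns i * h * (S.ns i)⁻¹) * (S.ns i)⁻¹
      = S.ns i * S.ns i * h * (S.ns i * S.ns i)⁻¹ by group] at this
  have := mul_mem (mul_mem (inv_mem (S.sq i hi)) h2) (S.sq i hi)
  simpa [mul_assoc] using this

/-- The quotient in which the Coxeter group lives. -/
abbrev NQ : Type _ :=
  ↥(Subgroup.normalizer (S.H : Set G)) ⧸ S.H.subgroupOf (Subgroup.normalizer (S.H : Set G))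

instance normal_H : (S.H.subgroupOf (Subgroup.normalizer (S.H : Set G))).Normal :=
  Subgroup.normal_in_normalizer

/-- The image of a representative. -/
def nsQ (i : Fin n) : S.NQ := QuotientGroup.mk ⟨S.ns i, S.ns_mem_norm i.isLt⟩

theorem nsQ_liftable : M.IsLiftable S.nsQ := by
  intro i j
  unfold nsQ
  rw [← QuotientGroup.mk_mul, ← QuotientGroup.mk_pow, QuotientGroup.eq_one_iff,
    Subgroup.mem_subgroupOf]
  simpa using S.rel i j

/-- The Coxeter group in `N/H`. -/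
noncomputable def lift : M.Group →* S.NQ :=
  M.toCoxeterSystem.lift ⟨S.nsQ, S.nsQ_liftable⟩

theorem lift_simple (i : Fin n) : S.lift (M.simple i) = S.nsQ i :=
  M.toCoxeterSystem.lift_apply_simple S.nsQ_liftable i

open Classical in
/-- Representatives, with the given ones at the fundamental reflections. -/
noncomputable def rep (w : M.Group) : G :=
  if w = 1 then 1
  else if h : ∃ i : Fin n, M.simple i = w then S.ns h.choose
  else (S.lift w).out.1

theorem rep_one : S.rep 1 = 1 := if_pos rfl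

include S in
theorem simple_inj {i j : Fin n} (h : M.simple i = M.simple j) : D.simple i = D.simple j := by
  by_contra hne
  have hi := hC.simple_spec i.isLt
  have hj := hC.simple_spec j.isLt
  have e : C.sigma i (D.simple j) = C.sigma j (D.simple j) := by
    have := congrArg (fun w => (hC.hom w ⟨D.simple j, hj.2.1⟩).val) h
    simpa [hC.hom_simple, hC.sigmaPerm_val] using this
  have h5 := (hC.sigma_spec i.isLt hj.2.1).2.2.2.2 hj.1 (Ne.symm hne)
  rw [e] at h5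
  have := hj.2.2
  omega

include hC in
theorem simple_ne_one (i : Fin n) : M.simple i ≠ 1 := by
  intro h
  have hi := hC.simple_spec i.isLt
  have := congrArg (fun w => (hC.hom w ⟨D.simple i, hi.2.1⟩).val) h
  simp [hC.hom_simple, hC.sigmaPerm_val] at this
  have := hi.2.2
  omega

theorem mk_rep (w : M.Group) :
    ∃ hw : S.rep w ∈ Subgroup.normalizer (S.H : Set G),
      (QuotientGroup.mk ⟨S.rep w, hw⟩ : S.NQ) = S.lift w := by
  classical
  unfold rep
  split_ifs with h1 h2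
  · refine ⟨one_mem _, ?_⟩
    subst h1
    rw [map_one]
    rfl
  · refine ⟨S.ns_mem_norm h2.choose.isLt, ?_⟩
    conv_rhs => rw [← h2.choose_spec, S.lift_simple]
    rfl
  · exact ⟨(S.lift w).out.2, Quotient.out_eq (S.lift w)⟩

theorem rep_mul (a b : M.Group) : ∃ h ∈ S.H, S.rep a * S.rep b = h * S.rep (a * b) := by
  obtain ⟨ha, ea⟩ := S.mk_rep a
  obtain ⟨hb, eb⟩ := S.mk_rep b
  obtain ⟨hab, eab⟩ := S.mk_rep (a * b)
  rw [map_mul, ← ea, ← eb, ← QuotientGroup.mk_mul] at eab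
  obtain ⟨hh, e⟩ : ∃ hh, hh = S.rep a * S.rep b * (S.rep (a * b))⁻¹ := ⟨_, rfl⟩
  refine ⟨hh, ?_, by rw [e]; group⟩
  have := QuotientGroup.eq.1 eab
  rw [Subgroup.mem_subgroupOf] at this
  have h2 := (Subgroup.mem_normalizer_iff.1 hab _).1 this
  rw [e]
  simpa [mul_assoc] using h2

theorem rep_simple (i : Fin n) : ∃ h ∈ S.H, S.rep (M.simple i) = h * S.ns i := by
  obtain ⟨hw, e⟩ := S.mk_rep (M.simple i)
  rw [S.lift_simple, nsQ, QuotientGroup.eq, Subgroup.mem_subgroupOf] at e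
  have h2 := (Subgroup.mem_normalizer_iff.1 hw _).1 e
  have h3 : S.ns i * (S.rep (M.simple i))⁻¹ ∈ S.H := by simpa [mul_assoc] using h2
  exact ⟨S.rep (M.simple i) * (S.ns i)⁻¹, by simpa using inv_mem h3, by group⟩

theorem rep_simple_eq (i : Fin n) (hinj : ∀ j : Fin n, D.simple j = D.simple i → j = i) :
    S.rep (M.simple i) = S.ns i := by
  classical
  unfold rep
  rw [if_neg (simple_ne_one (hC := hC) i)]
  have h : ∃ j : Fin n, M.simple j = M.simple i := ⟨i, rfl⟩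
  rw [dif_pos h]
  rw [hinj _ (S.simple_inj h.choose_spec)]

theorem rep_conj_H (w : M.Group) {h : G} (hh : h ∈ S.H) : S.rep w * h * (S.rep w)⁻¹ ∈ S.H :=
  (Subgroup.mem_normalizer_iff.1 (S.mk_rep w).1 h).1 hh

theorem top_of_closure {g : M.Group} : g ∈ Subgroup.closure (Set.range M.simple) := by
  have : Subgroup.closure (Set.range M.toCoxeterSystem.simple) = ⊤ :=
    M.toCoxeterSystem.subgroup_closure_range_simple
  exact this.symm ▸ Subgroup.mem_top g

theorem gen_induction {p : M.Group → Prop} (one : p 1)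
    (step : ∀ (i : Fin n) (w : M.Group), p w → p (M.simple i * w)) (w : M.Group) : p w := by
  have h := top_of_closure (g := w)
  refine Subgroup.closure_induction_left (p := fun g _ => p g) one ?_ ?_ h
  · rintro _ ⟨i, rfl⟩ y _ hy; exact step i y hy
  · rintro _ ⟨i, rfl⟩ y _ hy
    rw [show (M.simple i)⁻¹ = M.simple i from
      inv_eq_of_mul_eq_one_right (M.toCoxeterSystem.simple_mul_simple_self i)]
    exact step i y hy

/-- The representatives permute the root subgroups. -/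
theorem rep_conj (w : M.Group) : ∀ r (hr : r < D.nroots) t,
    ∃ t', S.rep w * S.x r t * (S.rep w)⁻¹ = S.x (hC.hom w ⟨r, hr⟩).val t' := by
  refine gen_induction (p := fun w => ∀ r (hr : r < D.nroots) t,
    ∃ t', S.rep w * S.x r t * (S.rep w)⁻¹ = S.x (hC.hom w ⟨r, hr⟩).val t') ?_ ?_ w
  · intro r hr t; exact ⟨t, by simp [S.rep_one]⟩
  · intro i w ih r hr t
    obtain ⟨t', e⟩ := ih r hr t
    obtain ⟨k, hk, e1⟩ := S.rep_mul (M.simple i) w
    obtain ⟨h, hh, e2⟩ := S.rep_simple i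
    have hlt : (hC.hom w ⟨r, hr⟩).val < D.nroots := Fin.isLt _
    obtain ⟨t2, e3⟩ := S.n_conj i i.isLt _ hlt t'
    obtain ⟨t3, e4⟩ := S.h_conj (k⁻¹ * h) (mul_mem (inv_mem hk) hh) _ (hC.sigma_spec i.isLt hlt).1 t2
    refine ⟨t3, ?_⟩
    have e5 : S.rep (M.simple i * w) = k⁻¹ * h * S.ns i * S.rep w := by
      rw [mul_assoc k⁻¹, ← e2, mul_assoc, e1, inv_mul_cancel_left]
    rw [map_mul, Equiv.Perm.mul_apply, hC.hom_simple, hC.sigmaPerm_val, e5, ← e4, ← e3, ← e]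
    group

theorem T_hom (w : M.Group) : ∀ r s k (hr : r < D.nroots) (hs : s < D.nroots) (hk : k < D.nroots),
    S.T r s k → S.T (hC.hom w ⟨r, hr⟩).val (hC.hom w ⟨s, hs⟩).val (hC.hom w ⟨k, hk⟩).val := by
  refine gen_induction (p := fun w => ∀ r s k (hr : r < D.nroots) (hs : s < D.nroots)
    (hk : k < D.nroots), S.T r s k →
      S.T (hC.hom w ⟨r, hr⟩).val (hC.hom w ⟨s, hs⟩).val (hC.hom w ⟨k, hk⟩).val) ?_ ?_ w
  · intro r s k _ _ _ h; simpa using h
  · intro i w ih r s k hr hs hk h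
    simp only [map_mul, Equiv.Perm.mul_apply, hC.hom_simple, hC.sigmaPerm_val]
    exact S.T_gen i.isLt (Fin.isLt _) (Fin.isLt _) (ih r s k hr hs hk h)

open Classical in
/-- The positive roots made negative by `w`. -/
noncomputable def flip (hC : Good C D M) (w : M.Group) : Finset ℕ :=
  (posSet D).filter fun r => ∀ hr : r < D.nroots, (hC.hom w ⟨r, hr⟩).val < D.nroots / 2

open Classical in
/-- The positive roots kept positive by `w`. -/
noncomputable def keep (hC : Good C D M) (w : M.Group) : Finset ℕ :=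
  (posSet D).filter fun r => ∀ hr : r < D.nroots, D.nroots / 2 ≤ (hC.hom w ⟨r, hr⟩).val

theorem mem_flip {w : M.Group} {r : ℕ} : r ∈ flip hC w ↔
    ∃ hr : r < D.nroots, D.nroots / 2 ≤ r ∧ (hC.hom w ⟨r, hr⟩).val < D.nroots / 2 := by
  simp only [flip, Finset.mem_filter, mem_posSet]
  exact ⟨fun ⟨⟨a, b⟩, c⟩ => ⟨a, b, c a⟩, fun ⟨a, b, c⟩ => ⟨⟨a, b⟩, fun _ => c⟩⟩

theorem mem_keep {w : M.Group} {r : ℕ} : r ∈ keep hC w ↔
    ∃ hr : r < D.nroots, D.nroots / 2 ≤ r ∧ D.nroots / 2 ≤ (hC.hom w ⟨r, hr⟩).val := by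
  simp only [keep, Finset.mem_filter, mem_posSet]
  exact ⟨fun ⟨⟨a, b⟩, c⟩ => ⟨a, b, c a⟩, fun ⟨a, b, c⟩ => ⟨⟨a, b⟩, fun _ => c⟩⟩

theorem card_flip (w : M.Group) : (flip hC w).card = hC.inv w := by
  unfold Good.inv
  refine Finset.card_bij (fun r hr => ⟨r, (mem_flip.1 hr).1⟩) ?_ ?_ ?_
  · intro r hr
    obtain ⟨h, h1, h2⟩ := mem_flip.1 hr
    exact Finset.mem_filter.2 ⟨Finset.mem_univ _, h1, h2⟩
  · intro a _ b _ e; exact congrArg Fin.val e
  · intro b hb
    rw [Finset.mem_filter] at hb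
    exact ⟨b.val, mem_flip.2 ⟨b.isLt, hb.2.1, hb.2.2⟩, rfl⟩

theorem closed_flip (w : M.Group) : S.toUnip.Closed (flip hC w) := by
  refine ⟨by rw [S.P_eq]; exact Finset.filter_subset _ _, fun r hr s hs _ k hk => ?_⟩
  obtain ⟨hr1, hr2, hr3⟩ := mem_flip.1 hr
  obtain ⟨hs1, hs2, hs3⟩ := mem_flip.1 hs
  have hk1 := (S.T_pos (S.P_eq ▸ mem_posSet.2 ⟨hr1, hr2⟩) (S.P_eq ▸ mem_posSet.2 ⟨hs1, hs2⟩) hk).1
  rw [S.P_eq, mem_posSet] at hk1
  exact mem_flip.2 ⟨hk1.1, hk1.2, (mem_negSet.1 (S.T_neg (mem_negSet.2 ⟨Fin.isLt _, hr3⟩)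
    (mem_negSet.2 ⟨Fin.isLt _, hs3⟩) (S.T_hom w r s k hr1 hs1 hk1.1 hk))).2⟩

/-- The subgroup `U_w`. -/
noncomputable def Uw (w : M.Group) : Subgroup G := XS S.x (↑(flip hC w) : Set ℕ)

theorem Uw_le (w : M.Group) : S.Uw w ≤ S.U :=
  XS_mono (by intro r hr; exact Finset.filter_subset _ _ hr)

theorem card_Uw (w : M.Group) : Nat.card (S.Uw w) = Nat.card F ^ hC.inv w := by
  rw [Uw, S.toUnip.card_XS (S.closed_flip w), card_flip]

theorem card_posSet (hev : 2 * (D.nroots / 2) = D.nroots) : (posSet D).card = D.nroots / 2 := by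
  have : posSet D = Finset.Ico (D.nroots / 2) D.nroots := by
    ext r; simp [posSet, and_comm]
  rw [this, Nat.card_Ico]
  omega

theorem card_U : Nat.card S.U = Nat.card F ^ (D.nroots / 2) := by
  rw [U, ← card_posSet hC.even, ← S.toUnip.card_XS (S.P_eq ▸ S.toUnip.closed_P)]

theorem U_split (w : M.Group) {u : G} (hu : u ∈ S.U) :
    ∃ a ∈ XS S.x (↑(keep hC w) : Set ℕ), ∃ b ∈ S.Uw w, u = a * b := by
  refine S.toUnip.exists_split (S.P_eq ▸ S.toUnip.closed_P) _ _ ?_ hu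
  intro r hr
  obtain ⟨h1, h2⟩ := mem_posSet.1 hr
  rcases Nat.lt_or_ge (hC.hom w ⟨r, h1⟩).val (D.nroots / 2) with h | h
  · exact Or.inr (mem_flip.2 ⟨h1, h2, h⟩)
  · exact Or.inl (mem_keep.2 ⟨h1, h2, h⟩)

theorem keep_conj (w : M.Group) {a : G} (ha : a ∈ XS S.x (↑(keep hC w) : Set ℕ)) :
    S.rep w * a * (S.rep w)⁻¹ ∈ S.U :=
  conj_mem_XS (fun r hr t => by
    obtain ⟨h1, h2, h3⟩ := mem_keep.1 hr
    obtain ⟨t', e⟩ := S.rep_conj w r h1 t
    rw [e]; exact S.x_mem_U (Fin.isLt _) h3 t') ha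

theorem flip_conj (w : M.Group) {v : G} (hv : v ∈ S.Uw w) :
    S.rep w * v * (S.rep w)⁻¹ ∈ XS S.x (↑(negSet D) : Set ℕ) :=
  conj_mem_XS (fun r hr t => by
    obtain ⟨h1, h2, h3⟩ := mem_flip.1 hr
    obtain ⟨t', e⟩ := S.rep_conj w r h1 t
    rw [e]; exact x_mem_XS (Finset.mem_coe.2 (mem_negSet.2 ⟨Fin.isLt _, h3⟩)) t') hv

end Sys

end Cfsg.Agent.H37.RootSys
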