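import Mathlib

/-!
Ordered systems of root subgroups: product decompositions and orders of the subgroups attached to
closed sets of roots.
-/
set_option autoImplicit false

namespace Cfsg.Agent.H37.RootSys

/-- The subgroup generated by the root subgroups indexed by a set. -/
def XS {G F : Type*} [Group G] (x : ℕ → F → G) (S : Set ℕ) : Subgroup G :=
  Subgroup.closure {g | ∃ r ∈ S, ∃ t, g = x r t}

/-- Root subgroups of a positive system `P`, ordered by index, with a commutator rule. -/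
structure Unip (G F : Type*) [Group G] [Field F] where
  P : Finset ℕ
  x : ℕ → F → G
  T : ℕ → ℕ → ℕ → Prop
  x_add : ∀ r ∈ P, ∀ a b, x r (a + b) = x r a * x r b
  T_pos : ∀ {r s k}, r ∈ P → s ∈ P → T r s k → k ∈ P ∧ r < k ∧ s < k
  comm : ∀ {r s}, r ∈ P → s ∈ P → r ≠ s → ∀ t u,
    x r t * x s u * (x r t)⁻¹ * (x s u)⁻¹ ∈ XS x {k | T r s k}
  sep : ∀ {k}, k ∈ P → ∀ t, x k t ∈ XS x {r | r ∈ P ∧ k < r} → t = 0

section XS

variable {G F : Type*} [Group G] {x : ℕ → F → G}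

theorem x_mem_XS {S : Set ℕ} {r : ℕ} (hr : r ∈ S) (t : F) : x r t ∈ XS x S :=
  Subgroup.subset_closure ⟨r, hr, t, rfl⟩

theorem XS_mono {S S' : Set ℕ} (h : S ⊆ S') : XS x S ≤ XS x S' :=
  Subgroup.closure_mono fun _ ⟨r, hr, t, e⟩ => ⟨r, h hr, t, e⟩

theorem XS_le {S : Set ℕ} {K : Subgroup G} (h : ∀ r ∈ S, ∀ t, x r t ∈ K) : XS x S ≤ K :=
  (Subgroup.closure_le K).2 (by rintro _ ⟨r, hr, t, rfl⟩; exact h r hr t)

theorem conj_mem_XS {S : Set ℕ} {K : Subgroup G} {a : G} (h : ∀ r ∈ S, ∀ t, a * x r t * a⁻¹ ∈ K)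
    {g : G} (hg : g ∈ XS x S) : a * g * a⁻¹ ∈ K := by
  have : XS x S ≤ K.comap (MulAut.conj a).toMonoidHom :=
    XS_le fun r hr t => by simpa using h r hr t
  simpa using this hg

theorem XS_empty : XS x (∅ : Set ℕ) = ⊥ :=
  le_bot_iff.1 (XS_le fun _ hr => absurd hr (Set.notMem_empty _))

end XS

namespace Unip

variable {G F : Type*} [Group G] [Field F] (Y : Unip G F)

theorem x_zero {r : ℕ} (hr : r ∈ Y.P) : Y.x r 0 = 1 := by
  have := Y.x_add r hr 0 0
  rw [add_zero] at this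
  exact left_eq_mul.1 this

theorem x_neg {r : ℕ} (hr : r ∈ Y.P) (t : F) : Y.x r (-t) = (Y.x r t)⁻¹ :=
  eq_inv_of_mul_eq_one_left (by rw [← Y.x_add r hr, neg_add_cancel, Y.x_zero hr])

/-- A set of positive roots closed under the commutator rule. -/
def Closed (S : Finset ℕ) : Prop :=
  S ⊆ Y.P ∧ ∀ r ∈ S, ∀ s ∈ S, r ≠ s → ∀ k, Y.T r s k → k ∈ S

theorem closed_P : Y.Closed Y.P :=
  ⟨Finset.Subset.refl _, fun _ hr _ hs _ _ hk => (Y.T_pos hr hs hk).1⟩

variable {S : Finset ℕ}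

/-- `x_k` normalises the part of a closed set above `k`. -/
theorem conj_tail (hS : Y.Closed S) {k : ℕ} (hk : k ∈ S) (t : F) {g : G}
    (hg : g ∈ XS Y.x {r | r ∈ S ∧ k < r}) :
    Y.x k t * g * (Y.x k t)⁻¹ ∈ XS Y.x {r | r ∈ S ∧ k < r} := by
  refine conj_mem_XS (fun s hs u => ?_) hg
  rw [show Y.x k t * Y.x s u * (Y.x k t)⁻¹
      = Y.x k t * Y.x s u * (Y.x k t)⁻¹ * (Y.x s u)⁻¹ * Y.x s u by group]
  refine mul_mem (XS_mono ?_ (Y.comm (hS.1 hk) (hS.1 hs.1) (Nat.ne_of_lt hs.2) t u))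
    (x_mem_XS hs u)
  intro m hm
  exact ⟨hS.2 k hk s hs.1 (Nat.ne_of_lt hs.2) m hm, (Y.T_pos (hS.1 hk) (hS.1 hs.1) hm).2.1⟩

theorem conj_tail' (hS : Y.Closed S) {k : ℕ} (hk : k ∈ S) (t : F) {g : G}
    (hg : g ∈ XS Y.x {r | r ∈ S ∧ k < r}) :
    (Y.x k t)⁻¹ * g * Y.x k t ∈ XS Y.x {r | r ∈ S ∧ k < r} := by
  have := Y.conj_tail hS hk (-t) hg
  rwa [Y.x_neg (hS.1 hk), inv_inv] at this

/-- The first coordinate. -/
theorem exists_head (hS : Y.Closed S) {k : ℕ} (hk : k ∈ S) {g : G}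
    (hg : g ∈ XS Y.x {r | r ∈ S ∧ k ≤ r}) :
    ∃ t, ∃ p ∈ XS Y.x {r | r ∈ S ∧ k < r}, g = Y.x k t * p := by
  induction hg using Subgroup.closure_induction with
  | mem g hg =>
      obtain ⟨r, ⟨hr, hkr⟩, t, rfl⟩ := hg
      rcases Nat.lt_or_ge k r with h | h
      · exact ⟨0, _, x_mem_XS (S := {r | r ∈ S ∧ k < r}) ⟨hr, h⟩ t, by rw [Y.x_zero (hS.1 hk), one_mul]⟩
      · obtain rfl : r = k := Nat.le_antisymm h hkr
        exact ⟨t, 1, one_mem _, (mul_one _).symm⟩
  | one => exact ⟨0, 1, one_mem _, by rw [Y.x_zero (hS.1 hk), one_mul]⟩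
  | mul a b _ _ iha ihb =>
      obtain ⟨t, p, hp, rfl⟩ := iha
      obtain ⟨u, p', hp', rfl⟩ := ihb
      exact ⟨t + u, (Y.x k u)⁻¹ * p * Y.x k u * p', mul_mem (Y.conj_tail' hS hk u hp) hp',
        by rw [Y.x_add k (hS.1 hk)]; group⟩
  | inv a _ iha =>
      obtain ⟨t, p, hp, rfl⟩ := iha
      exact ⟨-t, Y.x k t * p⁻¹ * (Y.x k t)⁻¹, Y.conj_tail hS hk t (inv_mem hp),
        by rw [Y.x_neg (hS.1 hk)]; group⟩

/-- The part above `k` of a set, one step at a time. -/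
theorem tail_succ (S : Finset ℕ) (k : ℕ) :
    {r | r ∈ S ∧ k + 1 ≤ r} = {r | r ∈ S ∧ k < r} := rfl

theorem tail_of_not_mem {S : Finset ℕ} {k : ℕ} (hk : k ∉ S) :
    {r | r ∈ S ∧ k ≤ r} = {r | r ∈ S ∧ k < r} := by
  ext r
  exact ⟨fun ⟨a, b⟩ => ⟨a, lt_of_le_of_ne b fun e => hk (e ▸ a)⟩, fun ⟨a, b⟩ => ⟨a, b.le⟩⟩

/-- Every element splits along any covering of a closed set by two sets. -/
theorem exists_split (hS : Y.Closed S) (A B : Set ℕ) (hAB : ∀ r ∈ S, r ∈ A ∨ r ∈ B)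
    {g : G} (hg : g ∈ XS Y.x ↑S) : ∃ a ∈ XS Y.x A, ∃ b ∈ XS Y.x B, g = a * b := by
  suffices ∀ m k, S.sup id < k + m → ∀ g ∈ XS Y.x {r | r ∈ S ∧ k ≤ r},
      ∃ a ∈ XS Y.x A, ∃ b ∈ XS Y.x B, g = a * b by
    refine this (S.sup id + 1) 0 (by omega) g (XS_mono ?_ hg)
    exact fun r hr => ⟨hr, Nat.zero_le r⟩
  intro m
  induction m with
  | zero =>
      intro k hk g hg
      have : {r | r ∈ S ∧ k ≤ r} = ∅ := by
        refine Set.eq_empty_iff_forall_notMem.2 fun r hr => ?_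
        have := Finset.le_sup (f := id) hr.1
        simp only [id_eq] at this
        have := hr.2
        omega
      rw [this, XS_empty, Subgroup.mem_bot] at hg
      exact ⟨1, one_mem _, 1, one_mem _, by simp [hg]⟩
  | succ m ih =>
      intro k hk g hg
      by_cases hkS : k ∈ S
      · obtain ⟨t, p, hp, rfl⟩ := Y.exists_head hS hkS hg
        obtain ⟨a, ha, b, hb, e⟩ := ih (k + 1) (by omega) p hp
        rcases hAB k hkS with hA | hB
        · exact ⟨Y.x k t * a, mul_mem (x_mem_XS hA t) ha, b, hb, by rw [e]; group⟩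
        · obtain ⟨a', ha', b', hb', e'⟩ := ih (k + 1) (by omega) _ (Y.conj_tail hS hkS t hp)
          exact ⟨a', ha', b' * Y.x k t, mul_mem hb' (x_mem_XS hB t), by rw [← mul_assoc, ← e']; group⟩
      · rw [tail_of_not_mem hkS] at hg
        exact ih (k + 1) (by omega) g hg

/-- The first coordinate is unique. -/
theorem head_unique (hS : Y.Closed S) {k : ℕ} (hk : k ∈ S) {t u : F} {p p' : G}
    (hp : p ∈ XS Y.x {r | r ∈ S ∧ k < r}) (hp' : p' ∈ XS Y.x {r | r ∈ S ∧ k < r})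
    (e : Y.x k t * p = Y.x k u * p') : t = u ∧ p = p' := by
  have hmem : Y.x k (-u + t) ∈ XS Y.x {r | r ∈ S ∧ k < r} := by
    have : Y.x k (-u + t) = p' * p⁻¹ := by
      rw [Y.x_add k (hS.1 hk), Y.x_neg (hS.1 hk), inv_mul_eq_iff_eq_mul, ← mul_assoc, ← e,
        mul_inv_cancel_right]
    rw [this]
    exact mul_mem hp' (inv_mem hp)
  have h0 := Y.sep (hS.1 hk) _ (XS_mono (S' := {r | r ∈ Y.P ∧ k < r}) (fun r hr => ⟨hS.1 hr.1, hr.2⟩) hmem)
  obtain rfl : t = u := by linear_combination h0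
  exact ⟨rfl, mul_left_cancel e⟩

/-- The order of the subgroup of a closed set. -/
theorem card_XS (hS : Y.Closed S) : Nat.card (XS Y.x (↑S : Set ℕ)) = Nat.card F ^ S.card := by
  suffices ∀ m k, S.sup id < k + m → Nat.card (XS Y.x {r | r ∈ S ∧ k ≤ r})
      = Nat.card F ^ (S.filter fun r => k ≤ r).card by
    have h := this (S.sup id + 1) 0 (by omega)
    simp only [Nat.zero_le, and_true, Finset.filter_true] at h
    exact h
  intro m
  induction m with
  | zero =>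
      intro k hk
      have hlt : ∀ r ∈ S, r < k := fun r hr => by
        have := Finset.le_sup (f := id) hr
        simp only [id_eq] at this
        omega
      have h1 : {r | r ∈ S ∧ k ≤ r} = ∅ :=
        Set.eq_empty_iff_forall_notMem.2 fun r hr => absurd hr.2 (by have := hlt r hr.1; omega)
      rw [Finset.filter_false_of_mem fun r hr => by have := hlt r hr; omega, h1, XS_empty]
      simp
  | succ m ih =>
      intro k hk
      by_cases hkS : k ∈ S
      · have hcard : (S.filter fun r => k ≤ r).card = (S.filter fun r => k + 1 ≤ r).card + 1 := by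
          rw [← Finset.card_insert_of_notMem (a := k) (s := S.filter fun r => k + 1 ≤ r) (by simp)]
          congr 1
          ext r
          simp only [Finset.mem_filter, Finset.mem_insert]
          constructor
          · rintro ⟨a, b⟩
            rcases Nat.eq_or_lt_of_le b with h | h
            · exact Or.inl h.symm
            · exact Or.inr ⟨a, h⟩
          · rintro (rfl | ⟨a, b⟩)
            · exact ⟨hkS, le_rfl⟩
            · exact ⟨a, by omega⟩
        rw [hcard, pow_succ, ← ih (k + 1) (by omega), mul_comm, ← Nat.card_prod]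
        refine (Nat.card_congr (Equiv.ofBijective
          (fun q : F × ↥(XS Y.x {r | r ∈ S ∧ k + 1 ≤ r}) =>
            (⟨Y.x k q.1 * q.2.1, mul_mem (x_mem_XS (S := {r | r ∈ S ∧ k ≤ r}) ⟨hkS, le_rfl⟩ _)
              (XS_mono (S' := {r | r ∈ S ∧ k ≤ r}) (fun r hr => ⟨hr.1, Nat.le_of_succ_le hr.2⟩) q.2.2)⟩ :
              ↥(XS Y.x {r | r ∈ S ∧ k ≤ r}))) ⟨?_, ?_⟩)).symm
        · rintro ⟨t, p, hp⟩ ⟨u, p', hp'⟩ e
          obtain ⟨rfl, rfl⟩ := Y.head_unique hS hkS hp hp' (congrArg Subtype.val e)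
          rfl
        · rintro ⟨g, hg⟩
          obtain ⟨t, p, hp, rfl⟩ := Y.exists_head hS hkS hg
          exact ⟨(t, ⟨p, hp⟩), rfl⟩
      · rw [tail_of_not_mem hkS, ← tail_succ, ih (k + 1) (by omega)]
        congr 2
        refine Finset.filter_congr fun r hr => ?_
        constructor
        · intro h; omega
        · intro h
          rcases Nat.eq_or_lt_of_le h with h' | h'
          · exact absurd (h' ▸ hr) hkS
          · exact h'

end Unip

end Cfsg.Agent.H37.RootSys
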